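import Mathlib
import Groth.Agent.H06Homog.Basic

/-!
# Orbits of opens under the component of the unit
-/

set_option autoImplicit false
set_option linter.style.haveILetI false
set_option linter.unusedSectionVars false
set_option backward.isDefEq.respectTransparency false

universe u

open CategoryTheory CategoryTheory.Limits MonoidalCategory CartesianMonoidalCategory MonObj GrpObj
  AlgebraicGeometry TopologicalSpace

namespace Groth.Agent.H06Homog

open Groth.Agent.H19Grp

variable {k : Type u} [Field k] {G X : Over (Spec (CommRingCat.of k))} [GrpObj G]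

theorem dirG₀ (g : G.left) : DirGen g := dirGen (grpToGrpd G) (Iso.refl _) g

theorem irreducibleComponents_eq {C : Set G.left} (hC : C ∈ irreducibleComponents ↥G.left) {g : G.left}
    (hg : g ∈ C) : C = irreducibleComponent g :=
  (dirG₀ g).eq_of_mem hC (irreducibleComponent_mem_irreducibleComponents g) hg mem_irreducibleComponent

/-- An irreducible component through the unit is the connected component of the unit. -/
theorem component_eq {C : Set G.left} (hC : C ∈ irreducibleComponents ↥G.left)
    (pt : ↥(𝟙_ (Over (Spec (CommRingCat.of k)))).left) (he : η[G].left pt ∈ C) :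
    C = connectedComponent (ept G) := by
  have hpt : η[G].left pt = ept G :=
    congrArg η[G].left (@Subsingleton.elim (PrimeSpectrum k) inferInstance _ _)
  rw [hpt] at he
  rw [irreducibleComponents_eq hC he]
  exact (connectedComponent_eq_irreducibleComponent (grpToGrpd G) (Iso.refl _) _).symm

theorem inv_mem_component {g : G.left} (hg : g ∈ connectedComponent (ept G)) :
    (𝟙 G : G ⟶ G)⁻¹.left g ∈ connectedComponent (ept G) := by
  refine (isPreconnected_connectedComponent.image (𝟙 G : G ⟶ G)⁻¹.left
    (𝟙 G : G ⟶ G)⁻¹.left.continuous.continuousOn).subset_connectedComponent ?_ ⟨g, hg, rfl⟩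
  refine ⟨ept G, mem_connectedComponent, ?_⟩
  rw [ept, ← Scheme.Hom.comp_apply, ← Over.comp_left, GrpObj.comp_inv, Category.comp_id]
  have e : (η[G] : 𝟙_ (Over (Spec (CommRingCat.of k))) ⟶ G)⁻¹ = η[G] := by
    have h1 : (η[G] : 𝟙_ (Over (Spec (CommRingCat.of k))) ⟶ G) = 1 := by
      rw [Hom.one_def, Subsingleton.elim (toUnit (𝟙_ (Over (Spec (CommRingCat.of k))))) (𝟙 _), Category.id_comp]
    rw [h1, inv_one]
  rw [e]

variable (a : AlgGrp.Action G X)

/-- The orbit of a set under the component of the unit. -/
def orb (U : Set X.left) : Set X.left :=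
  a.act.left '' {z : ↥(G ⊗ X).left | (fst G X).left z ∈ connectedComponent (ept G) ∧ (snd G X).left z ∈ U}

variable [Surjective (lift a.act (snd G X)).left]

/-- A point and its translate under the component of the unit have the same maximal generization. -/
theorem zeta_act (z : ↥(G ⊗ X).left) (hz : (fst G X).left z ∈ connectedComponent (ept G)) :
    zeta (a.act.left z) = zeta ((snd G X).left z) := by
  have hd := dirX a
  let f := (G ⊗ X).left.fromSpecResidueField z
  let y : Spec ((G ⊗ X).left.residueField z) ⟶ Spec (CommRingCat.of k) := f ≫ (G ⊗ X).hom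
  let L : Type u := (G ⊗ X).left.residueField z
  let p : Over.mk y ⟶ G ⊗ X := Over.homMk f rfl
  have hp : p.left (IsLocalRing.closedPoint L) = z := (G ⊗ X).left.fromSpecResidueField_apply z _
  have h1 : eta G (L := L) y ⤳ gPt (L := L) y (p ≫ fst G X) := by
    rw [eta_specializes_iff (L := L), gPt, ← Scheme.Hom.comp_apply, ← Over.comp_left, lift_fst,
      Over.comp_left, Scheme.Hom.comp_apply, hp]
    exact hz
  have h2 := h1.map ((G ◁ (p ≫ snd G X)) ≫ a.act).left.continuous
  rw [orbit_eta (L := L) a y (p ≫ snd G X), gPt, ← Scheme.Hom.comp_apply, ← Over.comp_left,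
    lift_whiskerLeft_assoc, Category.id_comp, ← comp_lift_assoc, lift_fst_snd, Category.id_comp,
    ] at h2
  simp only [Over.comp_left, Scheme.Hom.comp_apply, hp] at h2
  rw [← zeta_eq_of_specializes hd h2, zeta_zeta hd]

/-- The maximal generization of a point is a translate of it by the component of the unit. -/
theorem exists_act_eq_zeta (x : X.left) : ∃ z : ↥(G ⊗ X).left, (fst G X).left z ∈ connectedComponent (ept G) ∧
    (snd G X).left z = x ∧ a.act.left z = zeta x := by
  let f := X.left.fromSpecResidueField x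
  let y : Spec (X.left.residueField x) ⟶ Spec (CommRingCat.of k) := f ≫ X.hom
  let L : Type u := X.left.residueField x
  let v : Over.mk y ⟶ X := Over.homMk f rfl
  have hv : ∀ t, v.left t = x := fun t => X.left.fromSpecResidueField_apply x t
  refine ⟨(G ◁ v).left (eta G (L := L) y), ?_, ?_, ?_⟩
  · rw [← Scheme.Hom.comp_apply, ← Over.comp_left, whiskerLeft_fst]
    exact (eta_specializes_iff (L := L) y _).mp (specializes_refl _)
  · rw [← Scheme.Hom.comp_apply, ← Over.comp_left, whiskerLeft_snd, Over.comp_left, Scheme.Hom.comp_apply, hv]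
  · rw [← Scheme.Hom.comp_apply, ← Over.comp_left, orbit_eta (L := L) a y v, hv]

/-- Moving back. -/
noncomputable def swap : G ⊗ X ⟶ G ⊗ X := lift ((fst G X)⁻¹) a.act

theorem swap_act : swap a ≫ a.act = snd G X := by
  have h := inv_smulPt_smulPt a (fst G X) (snd G X)
  rw [← act_eq_smulPt] at h
  exact h

theorem exists_act_eq_of_zeta (x : X.left) : ∃ z : ↥(G ⊗ X).left, (fst G X).left z ∈ connectedComponent (ept G) ∧
    (snd G X).left z = zeta x ∧ a.act.left z = x := by
  obtain ⟨z, hz, hzs, hza⟩ := exists_act_eq_zeta a x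
  refine ⟨(swap a).left z, ?_, ?_, ?_⟩
  · rw [← Scheme.Hom.comp_apply, ← Over.comp_left, swap, lift_fst,
      show (fst G X)⁻¹ = fst G X ≫ (𝟙 G : G ⟶ G)⁻¹ by rw [GrpObj.comp_inv, Category.comp_id],
      Over.comp_left, Scheme.Hom.comp_apply]
    exact inv_mem_component hz
  · rw [← Scheme.Hom.comp_apply, ← Over.comp_left, swap, lift_snd]; exact hza
  · rw [← Scheme.Hom.comp_apply, ← Over.comp_left, swap_act]; exact hzs

theorem orb_eq_sat (U : X.left.Opens) : orb a (U : Set X.left) = sat (U : Set X.left) := by
  ext x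
  constructor
  · rintro ⟨z, ⟨hz, hzU⟩, rfl⟩
    show zeta (a.act.left z) ∈ U
    rw [zeta_act a z hz]
    exact (zeta_specializes _).mem_open U.2 hzU
  · intro hx
    obtain ⟨z, hz, hzs, hza⟩ := exists_act_eq_of_zeta a x
    exact ⟨z, ⟨hz, by rw [hzs]; exact hx⟩, hza⟩

include a in
theorem isOpen_sat' (U : X.left.Opens) : IsOpen (sat (U : Set X.left)) := by
  rw [← orb_eq_sat a U]
  haveI : UniversallyOpen (idComp G).hom := inferInstance
  let F : idComp G ⊗ X ⟶ X := (idCompι G ▷ X) ≫ a.act
  haveI : UniversallyOpen F.left :=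
    whiskerRight_act_left_of a (idCompι G) @UniversallyOpen inferInstance
  have h : orb a (U : Set X.left) = F.left '' ((snd (idComp G) X).left ⁻¹' (U : Set X.left)) := by
    ext x
    constructor
    · rintro ⟨z, ⟨hz, hzU⟩, rfl⟩
      rw [← range_idCompι_ept] at hz
      obtain ⟨c, hc⟩ := hz
      obtain ⟨w, -, hw⟩ := exists_of_isPullback (isPullback_whiskerRight (idCompι G) X) c z hc
      refine ⟨w, ?_, ?_⟩
      · rw [Set.mem_preimage, ← whiskerRight_snd (idCompι G) X, Over.comp_left, Scheme.Hom.comp_apply, hw]
        exact hzU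
      · rw [Over.comp_left, Scheme.Hom.comp_apply, hw]
    · rintro ⟨w, hw, rfl⟩
      refine ⟨(idCompι G ▷ X).left w, ⟨?_, ?_⟩, (Scheme.Hom.comp_apply _ _ _).symm⟩
      · rw [← Scheme.Hom.comp_apply, ← Over.comp_left, whiskerRight_fst, Over.comp_left,
          Scheme.Hom.comp_apply, ← range_idCompι_ept]
        exact ⟨_, rfl⟩
      · rw [← Scheme.Hom.comp_apply, ← Over.comp_left, whiskerRight_snd]
        exact hw
  rw [h]
  exact F.left.isOpenMap _ (U.2.preimage (snd (idComp G) X).left.continuous)

include a in
theorem isCompact_sat' (U : X.left.Opens) (hU : IsCompact (U : Set X.left)) :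
    IsCompact (sat (U : Set X.left)) := by
  rw [← orb_eq_sat a U]
  haveI : CompactSpace U.toScheme := isCompact_iff_compactSpace.mp hU
  haveI : CompactSpace (idComp G).left := by
    rw [← isCompact_univ_iff, (idCompι G).left.isClosedEmbedding.isInducing.isCompact_iff, Set.image_univ,
      range_idCompι_ept]
    exact isCompact_component_ept G
  haveI : QuasiCompact (idComp G).hom := (HasAffineProperty.iff_of_isAffine (P := @QuasiCompact)).mpr inferInstance
  haveI : CompactSpace ↥(pullback (idComp G).hom (U.ι ≫ X.hom)) :=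
    QuasiCompact.compactSpace_of_compactSpace (pullback.snd (idComp G).hom (U.ι ≫ X.hom))
  let q : pullback (idComp G).hom (U.ι ≫ X.hom) ⟶ (G ⊗ X).left :=
    pullback.map _ _ G.hom X.hom (idCompι G).left U.ι (𝟙 _) (by simp) (by simp)
  have hq : Set.range q = {z : ↥(G ⊗ X).left |
      (fst G X).left z ∈ connectedComponent (ept G) ∧ (snd G X).left z ∈ (U : Set X.left)} := by
    dsimp only [q]
    erw [Scheme.Pullback.range_map]
    rw [U.range_ι, range_idCompι_ept]
    rfl
  show IsCompact (a.act.left '' _)
  rw [← hq]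
  exact (isCompact_range q.continuous).image a.act.left.continuous

include a in
theorem compactSpace_of_irreducible [IrreducibleSpace X.left] : CompactSpace X.left := by
  have hd := dirX a
  obtain ⟨x⟩ := (inferInstance : Nonempty X.left)
  obtain ⟨U, hU, hxU, -⟩ := exists_isAffineOpen_mem_and_subset (X := X.left) (x := x) (U := ⊤) trivial
  refine ⟨?_⟩
  have h : sat (U : Set X.left) = Set.univ := Set.eq_univ_of_forall fun z => by
    show zeta z ∈ U
    rw [zeta_eq_of_isIrreducible hd (IrreducibleSpace.isIrreducible_univ X.left) (Set.mem_univ z) (Set.mem_univ x)]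
    exact (zeta_specializes x).mem_open U.2 hxU
  rw [← h]
  exact isCompact_sat' a U hU.isCompact

include a in
theorem isClopen_sat' [QuasiSeparatedSpace X.left] (U : X.left.Opens) (hU : IsCompact (U : Set X.left)) :
    IsClopen (sat (U : Set X.left)) := by
  refine ⟨isClosed_of_isCompact_of_stableUnderSpecialization ⟨_, isOpen_sat' a U⟩ (isCompact_sat' a U hU) ?_,
    isOpen_sat' a U⟩
  intro p q hpq hp
  show zeta q ∈ U
  rw [← zeta_eq_of_specializes (dirX a) hpq]
  exact hp

include a in
theorem connectedComponent_eq_irreducibleComponent' [QuasiSeparatedSpace X.left] (x : X.left) :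
    connectedComponent x = irreducibleComponent x := by
  have hd := dirX a
  refine Set.Subset.antisymm (fun z hz => ?_)
    (isIrreducible_irreducibleComponent.isConnected.subset_connectedComponent mem_irreducibleComponent)
  rw [mem_irreducibleComponent_iff_zeta hd]
  by_contra hne
  have hns : ¬ (zeta z ⤳ zeta x) := fun h => hne (eq_zeta_of_specializes hd h)
  rw [not_specializes_iff_exists_open] at hns
  obtain ⟨O, hO, hxO, hzO⟩ := hns
  obtain ⟨W, hW, hxW, hWO⟩ := exists_isAffineOpen_mem_and_subset (X := X.left) (U := ⟨O, hO⟩) hxO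
  exact hzO (hWO ((isClopen_sat' a W hW.isCompact).connectedComponent_subset hxW hz))

/-- The orbit of a rational point under the component of the unit is its component. -/
theorem orbit_image (x : 𝟙_ (Over (Spec (CommRingCat.of k))) ⟶ X)
    (pt : ↥(𝟙_ (Over (Spec (CommRingCat.of k)))).left) :
    (a.orbitMap x).left '' connectedComponent (ept G) = irreducibleComponent (x.left pt) := by
  have hd := dirX a
  let i₀ : G ⟶ G ⊗ X := lift (𝟙 G) (toUnit G ≫ x)
  have hfst : ∀ g, (fst G X).left (i₀.left g) = g := fun g => by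
    rw [← Scheme.Hom.comp_apply, ← Over.comp_left, lift_fst]; rfl
  have hsnd : ∀ g, (snd G X).left (i₀.left g) = x.left pt := fun g => by
    rw [← Scheme.Hom.comp_apply, ← Over.comp_left, lift_snd, Over.comp_left, Scheme.Hom.comp_apply]
    exact congrArg x.left (@Subsingleton.elim (PrimeSpectrum k) inferInstance _ _)
  have hact : ∀ g, a.act.left (i₀.left g) = (a.orbitMap x).left g := fun g => by
    rw [← Scheme.Hom.comp_apply, ← Over.comp_left]
    rfl
  have hlift : ∀ (z : ↥(G ⊗ X).left), (snd G X).left z = x.left pt →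
      (fst G X).left z ∈ connectedComponent (ept G) →
      ∃ g ∈ connectedComponent (ept G), i₀.left g = z := fun z hz hzf => by
    obtain ⟨r, hr, -⟩ := exists_of_isPullback (isPullback_whiskerLeft G x) z pt hz
    let e : G ⊗ 𝟙_ (Over (Spec (CommRingCat.of k))) ⟶ G := fst _ _
    have e1 : e ≫ i₀ = G ◁ x := by
      apply CartesianMonoidalCategory.hom_ext
      · simp [e, i₀]
      · simp only [e, i₀, Category.assoc, lift_snd, whiskerLeft_snd]
        rw [← Category.assoc, Subsingleton.elim (fst G (𝟙_ (Over (Spec (CommRingCat.of k)))) ≫ toUnit G)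
          (snd G (𝟙_ (Over (Spec (CommRingCat.of k)))))]
    refine ⟨e.left r, ?_, ?_⟩
    · rw [← hfst (e.left r), ← Scheme.Hom.comp_apply _ i₀.left, ← Over.comp_left, e1, hr]
      exact hzf
    · rw [← Scheme.Hom.comp_apply, ← Over.comp_left, e1]
      exact hr
  ext w
  constructor
  · rintro ⟨g, hg, rfl⟩
    rw [mem_irreducibleComponent_iff_zeta hd, ← hact, zeta_act a _ (by rw [hfst]; exact hg), hsnd]
  · intro hw
    rw [mem_irreducibleComponent_iff_zeta hd] at hw
    -- both points reach the maximal point
    obtain ⟨z, hz, hzs, hza⟩ := exists_act_eq_zeta a (x.left pt)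
    obtain ⟨h', hh', hi₀⟩ := hlift z hzs hz
    obtain ⟨z₂, hz₂, hz₂s, hz₂a⟩ := exists_act_eq_zeta a w
    rw [hw] at hz₂a
    have hoh : (a.orbitMap x).left h' = zeta (x.left pt) := by rw [← hact, hi₀, hza]
    obtain ⟨r, hr1, hr2⟩ := Scheme.Pullback.exists_preimage_pullback (f := a.act.left)
      (g := (a.orbitMap x).left) z₂ h' (hz₂a.trans hoh.symm)
    let R : Over (Spec (CommRingCat.of k)) := Over.mk (pullback.snd a.act.left (a.orbitMap x).left ≫ G.hom)
    let r₁ : R ⟶ G ⊗ X := Over.homMk (pullback.fst a.act.left (a.orbitMap x).left) (by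
      change _ = pullback.snd a.act.left (a.orbitMap x).left ≫ G.hom
      rw [← Over.w a.act, pullback.condition_assoc, Over.w (a.orbitMap x)])
    let g' : R ⟶ G := Over.homMk (pullback.snd a.act.left (a.orbitMap x).left) rfl
    have e : smulPt a (r₁ ≫ fst G X) (r₁ ≫ snd G X) = smulPt a g' (toUnit R ≫ x) := by
      have h1 : r₁ ≫ a.act = g' ≫ a.orbitMap x := Over.OverMorphism.ext pullback.condition
      rw [act_eq_smulPt a, comp_smulPt] at h1
      rw [h1, smulPt, AlgGrp.Action.orbitMap, comp_lift_assoc, Category.comp_id, ← Category.assoc,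
        Subsingleton.elim (g' ≫ toUnit G) (toUnit R)]
    have e2 : r₁ ≫ snd G X = ((r₁ ≫ fst G X)⁻¹ * g') ≫ a.orbitMap x := by
      rw [AlgGrp.Action.orbitMap, comp_lift_assoc, Category.comp_id, ← Category.assoc,
        Subsingleton.elim (((r₁ ≫ fst G X)⁻¹ * g') ≫ toUnit G) (toUnit R)]
      show _ = smulPt a ((r₁ ≫ fst G X)⁻¹ * g') (toUnit R ≫ x)
      rw [mul_smulPt, ← e, inv_smulPt_smulPt]
    refine ⟨((r₁ ≫ fst G X)⁻¹ * g').left r, ?_, ?_⟩
    · rw [Hom.mul_def, Over.comp_left, Scheme.Hom.comp_apply]
      refine mul_mem_component G _ ?_ ?_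
      · rw [← Scheme.Hom.comp_apply, ← Over.comp_left, lift_fst,
          show (r₁ ≫ fst G X)⁻¹ = (r₁ ≫ fst G X) ≫ (𝟙 G : G ⟶ G)⁻¹ by rw [GrpObj.comp_inv, Category.comp_id],
          Over.comp_left, Scheme.Hom.comp_apply, Over.comp_left, Scheme.Hom.comp_apply]
        refine inv_mem_component ?_
        rw [show r₁.left r = z₂ from hr1]
        exact hz₂
      · rw [← Scheme.Hom.comp_apply, ← Over.comp_left, lift_snd, show g'.left r = h' from hr2]
        exact hh'
    · rw [← Scheme.Hom.comp_apply, ← Over.comp_left, ← e2, Over.comp_left, Scheme.Hom.comp_apply,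
        show r₁.left r = z₂ from hr1, hz₂s]

theorem whiskerLeft_toUnit (T : Over (Spec (CommRingCat.of k))) (x : 𝟙_ (Over (Spec (CommRingCat.of k))) ⟶ X) :
    G ◁ (toUnit T ≫ x) = fst G T ≫ lift (𝟙 G) (toUnit G ≫ x) := by
  apply CartesianMonoidalCategory.hom_ext
  · simp
  · rw [whiskerLeft_snd, Category.assoc, lift_snd, ← Category.assoc, ← Category.assoc,
      Subsingleton.elim (fst G T ≫ toUnit G) (snd G T ≫ toUnit T)]

include a in
/-- The component of a rational point is geometrically irreducible. -/
theorem isIrreducible_preimage (x : 𝟙_ (Over (Spec (CommRingCat.of k))) ⟶ X)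
    (pt : ↥(𝟙_ (Over (Spec (CommRingCat.of k)))).left) {L : Type u} [Field L]
    (y : Spec (CommRingCat.of L) ⟶ Spec (CommRingCat.of k)) :
    IsIrreducible (pullback.fst X.hom y ⁻¹' irreducibleComponent (x.left pt)) := by
  have hd := dirX a
  let T := Over.mk y
  let v : T ⟶ X := toUnit T ≫ x
  let o := a.orbitMap x
  let η₀ : G.left := (fst G T).left (eta G y)
  have hoη : o.left η₀ = zeta (x.left pt) := by
    have h := orbit_eta a y v
    rw [show (G ◁ v) ≫ a.act = fst G T ≫ o by rw [whiskerLeft_toUnit, Category.assoc]; rfl,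
      Over.comp_left, Scheme.Hom.comp_apply] at h
    rw [h, show v.left (IsLocalRing.closedPoint L) = x.left pt from
      (Scheme.Hom.comp_apply _ _ _).trans
        (congrArg x.left (@Subsingleton.elim (PrimeSpectrum k) inferInstance _ _))]
  have hsq : IsPullback (fst G T).left (orbitMap a v).left o.left (fst X T).left := by
    refine IsPullback.of_bot (v₂₁ := (snd X T).left) (v₂₂ := X.hom) (h₃₁ := T.hom) ?_ ?_
      (IsPullback.of_hasPullback X.hom T.hom)
    · rw [← Over.comp_left, show orbitMap a v ≫ snd X T = snd G T by simp [orbitMap], Over.w o]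
      exact IsPullback.of_hasPullback G.hom T.hom
    · rw [← Over.comp_left, ← Over.comp_left]
      congr 1
      show fst G T ≫ o = lift ((G ◁ v) ≫ a.act) (snd G T) ≫ fst X T
      rw [lift_fst, whiskerLeft_toUnit, Category.assoc]
      rfl
  have hη₀ : η₀ ∈ connectedComponent (ept G) := (eta_specializes_iff y _).mp (specializes_refl _)
  have hpre : pullback.fst X.hom y ⁻¹' irreducibleComponent (x.left pt) =
      closure {(orbitMap a v).left (eta G y)} := by
    have hopen : IsOpenMap (pullback.fst X.hom y) := by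
      haveI : UniversallyOpen y := inferInstance
      exact (pullback.fst X.hom y).isOpenMap
    rw [← (isGenericPoint_zeta (x.left pt)).def,
      hopen.preimage_closure_eq_closure_preimage (pullback.fst X.hom y).continuous]
    refine Set.Subset.antisymm (closure_minimal ?_ isClosed_closure)
      (closure_mono (Set.singleton_subset_iff.mpr ?_))
    · intro z hz
      have hgen : η₀ = zeta (ept G) := by
        have h : Flat (fst G T).left := MorphismProperty.pullback_fst G.hom y (H12AlgSp.flat_to_field y)
        show (fst G T).left (eta G y) = _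
        rw [eta, map_zeta dirG₀ (fst G T).left.continuous (Flat.generalizingMap _) (dirG y), gPt,
          ← Scheme.Hom.comp_apply, ← Over.comp_left, lift_fst, Hom.one_def, Over.comp_left, Scheme.Hom.comp_apply]
        exact congrArg (fun t => zeta (η[G].left t)) (@Subsingleton.elim (PrimeSpectrum k) inferInstance _ _)
      obtain ⟨r, hr1, hr2⟩ := exists_of_isPullback hsq η₀ z (hoη.trans hz.symm)
      rw [← hr2]
      exact (((eta_specializes_iff y r).mpr (by rw [hr1]; exact hη₀)).map
        (orbitMap a v).left.continuous).mem_closure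
    · show (fst X T).left ((orbitMap a v).left (eta G y)) ∈ ({zeta (x.left pt)} : Set X.left)
      rw [← Scheme.Hom.comp_apply, ← hsq.w, Scheme.Hom.comp_apply, Set.mem_singleton_iff]
      exact hoη
  rw [hpre]
  exact isIrreducible_singleton.closure

end Groth.Agent.H06Homog
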