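import Mathlib
import Groth.Agent.H06Homog.Orbits
import Groth.Agent.H06GenSub.Rational

/-!
# All components of a homogeneous space have the same dimension
-/

set_option autoImplicit false
set_option linter.style.haveILetI false
set_option linter.unusedSectionVars false
set_option backward.isDefEq.respectTransparency false

universe u

open CategoryTheory CategoryTheory.Limits MonoidalCategory CartesianMonoidalCategory MonObj GrpObj
  AlgebraicGeometry TopologicalSpace

namespace Groth.Agent.H06Homog

open Groth.Agent.H19Grp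
open Groth.Agent.H8Props.FieldDim (cdim)

theorem cdim_homeomorph {α β : Type u} [TopologicalSpace α] [TopologicalSpace β] (h : α ≃ₜ β) (x : α) :
    cdim (h x) = cdim x := by
  unfold cdim
  rw [← Set.image_singleton, ← h.image_closure]
  exact (IsHomeomorph.topologicalKrullDim_eq _ (h.image (closure {x})).isHomeomorph).symm

theorem dim_component_homeomorph {α β : Type u} [TopologicalSpace α] [TopologicalSpace β] (h : α ≃ₜ β) (x : α) :
    topologicalKrullDim ↥(connectedComponent (h x)) = topologicalKrullDim ↥(connectedComponent x) := by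
  rw [← homeomorph_image_component]
  exact (IsHomeomorph.topologicalKrullDim_eq _ (h.image (connectedComponent x)).isHomeomorph).symm

section closedField

variable {K : Type u} [Field K] [IsAlgClosed K] {G X : Over (Spec (CommRingCat.of K))} [GrpObj G]
  [LocallyOfFiniteType G.hom] [LocallyOfFiniteType X.hom] (a : AlgGrp.Action G X)
  [Surjective (lift a.act (snd G X)).left]

include a in
theorem cdim_zeta_eq (x z : X.left) : cdim (zeta x) = cdim (zeta z) := by
  have hd := dirX a
  haveI : JacobsonSpace X.left := LocallyOfFiniteType.jacobsonSpace X.hom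
  have hpt : ∀ x : X.left, ∃ v : 𝟙_ (Over (Spec (CommRingCat.of K))) ⟶ X, zeta (v.left H06GenSub.Borel.pt₀) = zeta x :=
    fun x => by
      obtain ⟨c, hc, hcc⟩ := nonempty_inter_closedPoints (Z := closure {zeta x})
        ⟨zeta x, subset_closure rfl⟩ isClosed_closure.isLocallyClosed
      obtain ⟨v, hv⟩ := H06GenSub.Borel.exists_point c hcc
      exact ⟨v, by rw [hv, ← zeta_eq_of_specializes hd (specializes_iff_mem_closure.2 hc), zeta_zeta hd]⟩
  obtain ⟨v, hv⟩ := hpt x
  obtain ⟨w, hw⟩ := hpt z
  -- a rational point of the group moving one to the other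
  obtain ⟨g, hg⟩ : ∃ g : 𝟙_ (Over (Spec (CommRingCat.of K))) ⟶ G, g ≫ a.orbitMap v = w := by
    obtain ⟨π, hπ1, hπ2⟩ := exists_of_isPullback (isPullback_whiskerLeft X v)
      ((lift w v).left H06GenSub.Borel.pt₀) H06GenSub.Borel.pt₀ (by
        rw [← Scheme.Hom.comp_apply, ← Over.comp_left, lift_snd])
    obtain ⟨r, hr⟩ := exists_orbitMap_eq a v π
    let e : G ⊗ 𝟙_ (Over (Spec (CommRingCat.of K))) ⟶ G := fst _ _
    have e1 : e ≫ a.orbitMap v = orbitMap a v ≫ fst _ _ := by
      rw [lift_fst, AlgGrp.Action.orbitMap, ← Category.assoc]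
      congr 1
      apply CartesianMonoidalCategory.hom_ext
      · simp [e]
      · simp only [e, whiskerLeft_snd, Category.assoc, lift_snd]
        rw [← Category.assoc, Subsingleton.elim (fst G (𝟙_ (Over (Spec (CommRingCat.of K)))) ≫ toUnit G)
          (snd G (𝟙_ (Over (Spec (CommRingCat.of K)))))]
    have hmem : w.left H06GenSub.Borel.pt₀ ∈ Set.range (a.orbitMap v).left := by
      refine ⟨e.left r, ?_⟩
      rw [← Scheme.Hom.comp_apply, ← Over.comp_left, e1, Over.comp_left, Scheme.Hom.comp_apply, hr]
      have h2 := congrArg (fst X X).left hπ1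
      rw [← Scheme.Hom.comp_apply, ← Over.comp_left, whiskerLeft_fst, ← Scheme.Hom.comp_apply, ← Over.comp_left,
        lift_fst] at h2
      exact h2
    have hclosed : IsClosed ((a.orbitMap v).left ⁻¹' {w.left H06GenSub.Borel.pt₀}) :=
      (((pointEquivClosedPoint X.hom) ⟨w.left, Over.w w⟩).2).preimage (a.orbitMap v).left.continuous
    haveI : JacobsonSpace G.left := LocallyOfFiniteType.jacobsonSpace G.hom
    obtain ⟨c, hc, hcc⟩ := nonempty_inter_closedPoints (Z := (a.orbitMap v).left ⁻¹' {w.left H06GenSub.Borel.pt₀})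
      hmem hclosed.isLocallyClosed
    obtain ⟨g, hg⟩ := H06GenSub.Borel.exists_point c hcc
    exact ⟨g, H06GenSub.Borel.point_ext _ _ (by rw [Over.comp_left, Scheme.Hom.comp_apply, hg]; exact hc)⟩
  let τ : (𝟙_ (Over (Spec (CommRingCat.of K))) ⟶ G) → (X ⟶ X) := fun g => smulPt a (toUnit X ≫ g) (𝟙 X)
  have hτ : ∀ g, τ g ≫ τ g⁻¹ = 𝟙 X := fun g => by
    simp only [τ, comp_smulPt, Category.comp_id, ← Category.assoc,
      Subsingleton.elim (smulPt a (toUnit X ≫ g) (𝟙 X) ≫ toUnit X) (toUnit X)]
    rw [← mul_smulPt, ← MonObj.comp_mul, inv_mul_cancel, MonObj.comp_one, one_smulPt]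
  haveI : IsIso (τ g) := ⟨τ g⁻¹, hτ g, by simpa using hτ g⁻¹⟩
  haveI : IsIso (τ g).left := inferInstanceAs (IsIso ((Over.forget _).map (τ g)))
  have hvw : v ≫ τ g = w := by
    rw [← hg]
    simp only [τ, comp_smulPt, Category.comp_id, ← Category.assoc, Subsingleton.elim (v ≫ toUnit X) (𝟙 _),
      Category.id_comp]
    show smulPt a g v = g ≫ lift (𝟙 G) (toUnit G ≫ v) ≫ a.act
    rw [comp_lift_assoc, Category.comp_id, ← Category.assoc, Subsingleton.elim (g ≫ toUnit G) (𝟙 _),
      Category.id_comp]
    rfl
  rw [← hv, ← hw, ← hvw, Over.comp_left, Scheme.Hom.comp_apply,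
    ← map_zeta hd (τ g).left.continuous (Flat.generalizingMap _) hd]
  exact (cdim_homeomorph (τ g).left.homeomorph _).symm

end closedField

section field

variable {k : Type u} [Field k] {G X : Over (Spec (CommRingCat.of k))} [GrpObj G]
  [LocallyOfFiniteType G.hom] [LocallyOfFiniteType X.hom] (a : AlgGrp.Action G X)
  [Surjective (lift a.act (snd G X)).left]

include a in
theorem dim_component_eq (x z : X.left) :
    topologicalKrullDim ↥(connectedComponent x) = topologicalKrullDim ↥(connectedComponent z) := by
  have hd := dirX a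
  haveI : IsLocallyNoetherian X.left := LocallyOfFiniteType.isLocallyNoetherian X.hom
  have hcomp : ∀ x : X.left, topologicalKrullDim ↥(connectedComponent x) = cdim (zeta x) := fun x => by
    rw [connectedComponent_eq_irreducibleComponent' a x, ← (isGenericPoint_zeta x).def]
    rfl
  rw [hcomp, hcomp]
  let K := AlgebraicClosure k
  let y : Spec (CommRingCat.of K) ⟶ Spec (CommRingCat.of k) := Spec.map (CommRingCat.ofHom (algebraMap k K))
  haveI := surjective_bc_shear a y
  haveI : LocallyOfFiniteType (Red.bc y G).hom := inferInstanceAs (LocallyOfFiniteType (pullback.snd G.hom y))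
  haveI : LocallyOfFiniteType (Red.bc y X).hom := inferInstanceAs (LocallyOfFiniteType (pullback.snd X.hom y))
  have hd' := dirX (a.bc y)
  have key : ∀ x : X.left, ∃ z' : (Red.bc y X).left, cdim (zeta z') = cdim (zeta x) := fun x => by
    obtain ⟨z', hz', -⟩ := Scheme.Pullback.exists_preimage_pullback (f := X.hom) (g := y) (zeta x)
      (IsLocalRing.closedPoint K) (Subsingleton.elim _ _)
    obtain ⟨η', hη', hgη, hdim⟩ := (H8Props.FieldDim.baseChange_point X.hom (pullback.fst X.hom y) (pullback.snd X.hom y)
      (IsPullback.of_hasPullback X.hom y) z').2 (zeta x) (by rw [hz'])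
    refine ⟨η', ?_⟩
    rw [← hdim]
    congr 1
    by_contra hne
    have h1 := (H8Props.FieldDim.cdim_lt (Red.bc y X).hom (zeta_specializes (α := (Red.bc y X).left) η') hne)
    have h2 : pullback.fst X.hom y (zeta (α := (Red.bc y X).left) η') = zeta x :=
      eq_zeta_of_specializes hd (hgη ▸ (zeta_specializes (α := (Red.bc y X).left) η').map
        (pullback.fst X.hom y).continuous)
    have h3 := (H8Props.FieldDim.baseChange_point X.hom (pullback.fst X.hom y) (pullback.snd X.hom y)
      (IsPullback.of_hasPullback X.hom y) (zeta (α := (Red.bc y X).left) η')).1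
    rw [h2, ← hdim] at h3
    exact (h1.trans_le h3).false
  obtain ⟨x', hx'⟩ := key x
  obtain ⟨z', hz'⟩ := key z
  rw [← hx', ← hz']
  exact cdim_zeta_eq (a.bc y) x' z'

end field

end Groth.Agent.H06Homog
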